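import Mathlib
import Cfsg.Agent.Lib.Forms.Witt
import Cfsg.Agent.Lib.Forms.Classify
import Cfsg.Agent.Lib.Linear.Symplectic
import Cfsg.Agent.Lib.Linear.SympCard

/-!
Geometry of the symplectic group: Witt's theorem for `Matrix.symplecticGroup`, isotropic tuples,
and the orders of stabilisers of totally isotropic subspaces and flags.
-/

set_option autoImplicit false

namespace CfsgLib.SympGeom

open Matrix Cfsg CfsgLib.Linear.Symp

variable {F : Type*} [Field F] {m : ℕ}

/-- `sympForm` as a bilinear form. -/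
def sympBilin (m : ℕ) (F : Type*) [Field F] : LinearMap.BilinForm F (Fin m ⊕ Fin m → F) :=
  LinearMap.mk₂ F (sympForm m F) form_add_left form_smul_left form_add_right form_smul_right

@[simp] theorem sympBilin_apply (u v : Fin m ⊕ Fin m → F) :
    sympBilin m F u v = sympForm m F u v := rfl

theorem sympBilin_alt : (sympBilin m F).IsAlt := fun v => form_self v

theorem sympBilin_nondeg : (sympBilin m F).Nondegenerate :=
  ⟨fun u h => eq_zero_of_forall_form h, fun v h => eq_zero_of_forall_form fun w => by
    rw [form_swap, show sympForm m F w v = 0 from h w, neg_zero]⟩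

theorem finrank_space : Module.finrank F (Fin m ⊕ Fin m → F) = 2 * m := by
  rw [Module.finrank_fintype_fun_eq_card, Fintype.card_sum, Fintype.card_fin]
  ring

/-- A form-preserving linear equivalence as an element of the symplectic group. -/
theorem exists_of_linearEquiv (g : (Fin m ⊕ Fin m → F) ≃ₗ[F] (Fin m ⊕ Fin m → F))
    (hg : ∀ u v, sympForm m F (g u) (g v) = sympForm m F u v) :
    ∃ A : symplecticGroup (Fin m) F, ∀ v, A.1 *ᵥ v = g v := by
  refine ⟨⟨LinearMap.toMatrix' g.toLinearMap, mem_of_form_mulVec fun u v => ?_⟩, fun v => ?_⟩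
  · simp [hg]
  · simp

/-- Witt's theorem for the symplectic group. -/
theorem exists_extend (X : Submodule F (Fin m ⊕ Fin m → F))
    (f : (Fin m ⊕ Fin m → F) →ₗ[F] (Fin m ⊕ Fin m → F))
    (hf : ∀ x ∈ X, ∀ y ∈ X, sympForm m F (f x) (f y) = sympForm m F x y)
    (hinj : ∀ x ∈ X, f x = 0 → x = 0) :
    ∃ A : symplecticGroup (Fin m) F, ∀ x ∈ X, A.1 *ᵥ x = f x := by
  obtain ⟨g, hg, hgX⟩ :=
    CfsgLib.Forms.witt_alternating (sympBilin m F) sympBilin_nondeg sympBilin_alt X f hf hinj
  obtain ⟨A, hA⟩ := exists_of_linearEquiv g hg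
  exact ⟨A, fun x hx => by rw [hA, hgX x hx]⟩

/-! ### Conjugate stabilisers -/

/-- Stabilisers of translates are conjugate. -/
theorem stabilizing_image (A : symplecticGroup (Fin m) F) (S : Set (Fin m ⊕ Fin m → F)) :
    stabilizing (spToMat m F) ((fun v => A.1 *ᵥ v) '' S) =
      (stabilizing (spToMat m F) S).map (MulAut.conj A).toMonoidHom := by
  have hinj : ∀ v, (A⁻¹ : symplecticGroup (Fin m) F).1 *ᵥ (A.1 *ᵥ v) = v := fun v => by
    rw [← smul_def, ← smul_def, inv_smul_smul]
  have hinv : ∀ v, A.1 *ᵥ ((A⁻¹ : symplecticGroup (Fin m) F).1 *ᵥ v) = v := fun v => by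
    rw [← smul_def, ← smul_def, smul_inv_smul]
  have hmemim : ∀ v, v ∈ (fun v => A.1 *ᵥ v) '' S ↔ (A⁻¹ : symplecticGroup (Fin m) F).1 *ᵥ v ∈ S := by
    intro v
    constructor
    · rintro ⟨w, hw, rfl⟩
      rwa [hinj]
    · intro h
      exact ⟨_, h, hinv v⟩
  have key : ∀ g, g ∈ stabilizing (spToMat m F) ((fun v => A.1 *ᵥ v) '' S) ↔
      A⁻¹ * g * A ∈ stabilizing (spToMat m F) S := by
    intro g
    show (∀ v, v ∈ (fun v => A.1 *ᵥ v) '' S ↔ g.1 *ᵥ v ∈ (fun v => A.1 *ᵥ v) '' S) ↔
      ∀ v, v ∈ S ↔ (A⁻¹ * g * A).1 *ᵥ v ∈ S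
    simp only [hmemim, Submonoid.coe_mul, ← mulVec_mulVec]
    constructor
    · intro h v
      have := h (A.1 *ᵥ v)
      rwa [hinj] at this
    · intro h v
      have := h ((A⁻¹ : symplecticGroup (Fin m) F).1 *ᵥ v)
      rwa [hinv] at this
  ext g
  rw [key, Subgroup.mem_map]
  constructor
  · intro h
    exact ⟨_, h, by simp [MulAut.conj_apply, mul_assoc]⟩
  · rintro ⟨x, hx, rfl⟩
    simpa [MulAut.conj_apply, mul_assoc] using hx

/-! ### Isotropic tuples -/

/-- Linearly independent tuples of pairwise orthogonal vectors. -/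
def IsoTuple (m : ℕ) (F : Type*) [Field F] (k : ℕ) : Type _ :=
  {t : Fin k → (Fin m ⊕ Fin m → F) // LinearIndependent F t ∧ ∀ i j, sympForm m F (t i) (t j) = 0}

instance isoTupleFinite [Finite F] {k : ℕ} : Finite (IsoTuple m F k) := Subtype.finite

theorem card_isoTuple [Fintype F] : ∀ {k : ℕ}, k ≤ m → Nat.card (IsoTuple m F k) =
    ∏ j ∈ Finset.range k, (Fintype.card F ^ (2 * m - j) - Fintype.card F ^ j) := by
  classical
  intro k
  induction k with
  | zero =>
    intro _
    rw [Finset.prod_range_zero, Nat.card_eq_one_iff_unique]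
    exact ⟨⟨fun a b => Subtype.ext (funext fun i => i.elim0)⟩,
      ⟨⟨Fin.elim0, linearIndependent_empty_type, fun i => i.elim0⟩⟩⟩
  | succ k ih =>
    intro hk
    let Vperp : IsoTuple m F k → Submodule F (Fin m ⊕ Fin m → F) := fun t =>
      LinearMap.BilinForm.orthogonal (sympBilin m F) (Submodule.span F (Set.range t.1))
    have e : IsoTuple m F (k + 1) ≃ Σ t : IsoTuple m F k,
        {x : Fin m ⊕ Fin m → F // x ∈ Vperp t ∧ x ∉ Submodule.span F (Set.range t.1)} := by
      refine
        { toFun := fun t => ⟨⟨Fin.init t.1, ?_, ?_⟩, ⟨t.1 (Fin.last k), ?_, ?_⟩⟩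
          invFun := fun p => ⟨Fin.snoc p.1.1 p.2.1, ?_, ?_⟩
          left_inv := ?_
          right_inv := ?_ }
      · exact t.2.1.comp _ (Fin.castSucc_injective k)
      · exact fun i j => t.2.2 _ _
      · intro y hy
        induction hy using Submodule.span_induction with
        | mem z hz =>
          obtain ⟨i, rfl⟩ := hz
          exact t.2.2 _ _
        | zero => exact form_zero_left _
        | add a b _ _ ha hb =>
          show sympForm m F (a + b) _ = 0
          rw [form_add_left, show sympForm m F a _ = 0 from ha, show sympForm m F b _ = 0 from hb,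
            add_zero]
        | smul c a _ ha =>
          show sympForm m F (c • a) _ = 0
          rw [form_smul_left, show sympForm m F a _ = 0 from ha, mul_zero]
      · intro h
        have h' := t.2.1
        rw [linearIndependent_fin_succ'] at h'
        exact h'.2 h
      · rw [linearIndependent_fin_snoc]
        exact ⟨p.1.2.1, p.2.2.2⟩
      · intro i j
        induction i using Fin.lastCases <;> induction j using Fin.lastCases <;>
          simp only [Fin.snoc_last, Fin.snoc_castSucc]
        · exact form_self _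
        · rw [form_swap, show sympForm m F (p.1.1 _) p.2.1 = 0 from
            p.2.2.1 _ (Submodule.subset_span ⟨_, rfl⟩), neg_zero]
        · exact p.2.2.1 _ (Submodule.subset_span ⟨_, rfl⟩)
        · exact p.1.2.2 _ _
      · intro t
        exact Subtype.ext (Fin.snoc_init_self t.1)
      · intro p
        exact Sigma.subtype_ext (Subtype.ext (Fin.init_snoc (α := fun _ => Fin m ⊕ Fin m → F) p.2.1 p.1.1))
          (by exact Fin.snoc_last (α := fun _ => Fin m ⊕ Fin m → F) p.2.1 p.1.1)
    rw [Nat.card_congr e]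
    letI : Fintype (IsoTuple m F k) := Fintype.ofFinite _
    rw [Nat.card_sigma, Finset.prod_range_succ, ← ih (by omega), Nat.card_eq_fintype_card]
    rw [Finset.sum_congr rfl (fun t _ => ?_), Finset.sum_const, Finset.card_univ, smul_eq_mul]
    set S := Submodule.span F (Set.range t.1) with hS
    have hSk : Module.finrank F S = k := by
      rw [hS, finrank_span_eq_card t.2.1, Fintype.card_fin]
    have hle : S ≤ Vperp t := by
      rw [hS, Submodule.span_le]
      rintro _ ⟨i, rfl⟩ y hy
      induction hy using Submodule.span_induction with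
      | mem z hz =>
        obtain ⟨l, rfl⟩ := hz
        exact t.2.2 _ _
      | zero => exact form_zero_left _
      | add a b _ _ ha hb =>
        show sympForm m F (a + b) _ = 0
        rw [form_add_left, show sympForm m F a _ = 0 from ha, show sympForm m F b _ = 0 from hb,
          add_zero]
      | smul c a _ ha =>
        show sympForm m F (c • a) _ = 0
        rw [form_smul_left, show sympForm m F a _ = 0 from ha, mul_zero]
    have hperp : Module.finrank F (Vperp t) = 2 * m - k := by
      simp only [Vperp]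
      rw [LinearMap.BilinForm.finrank_orthogonal sympBilin_nondeg, finrank_space, hSk]
    show Nat.card ((Vperp t : Set (Fin m ⊕ Fin m → F)) \ (S : Set (Fin m ⊕ Fin m → F)) : Set _) = _
    rw [Nat.card_coe_set_eq, Set.ncard_sdiff (SetLike.coe_subset_coe.mpr hle) (Set.toFinite _),
      ← Nat.card_coe_set_eq, ← Nat.card_coe_set_eq]
    simp only [SetLike.coe_sort_coe]
    rw [Module.natCard_eq_pow_finrank (K := F) (V := Vperp t), hperp,
      Module.natCard_eq_pow_finrank (K := F) (V := S), hSk, Nat.card_eq_fintype_card]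

/-- The pointwise fixer of a tuple. -/
def tupleFixer {k : ℕ} (t : Fin k → (Fin m ⊕ Fin m → F)) : Subgroup (symplecticGroup (Fin m) F) :=
  MulAction.stabilizer (symplecticGroup (Fin m) F) t

theorem mem_tupleFixer {k : ℕ} {t : Fin k → (Fin m ⊕ Fin m → F)} {g : symplecticGroup (Fin m) F} :
    g ∈ tupleFixer t ↔ ∀ i, g.1 *ᵥ t i = t i := by
  rw [tupleFixer, MulAction.mem_stabilizer_iff, funext_iff]
  rfl

/-- A group containing the fixer has order orbit length times the order of the fixer. -/
theorem card_of_fixer_le [Finite F] {k : ℕ} (t : Fin k → (Fin m ⊕ Fin m → F))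
    (H : Subgroup (symplecticGroup (Fin m) F)) (hle : tupleFixer t ≤ H) :
    Nat.card H = Nat.card (MulAction.orbit H t) * Nat.card (tupleFixer t) := by
  rw [← (MulAction.stabilizer H t).index_mul_card, MulAction.index_stabilizer,
    ← Nat.card_coe_set_eq]
  congr 1
  exact Nat.card_congr
    { toFun := fun g => ⟨g.1.1, g.2⟩
      invFun := fun g => ⟨⟨g.1, hle g.2⟩, g.2⟩
      left_inv := fun g => rfl
      right_inv := fun g => rfl }

theorem exists_map_isoTuple {k : ℕ} (t u : IsoTuple m F k) :
    ∃ A : symplecticGroup (Fin m) F, ∀ i, A.1 *ᵥ t.1 i = u.1 i := by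
  classical
  set X := Submodule.span F (Set.range t.1) with hX
  let b : Module.Basis (Fin k) F X := Module.Basis.span t.2.1
  obtain ⟨f, hf⟩ := LinearMap.exists_extend (b.constr F u.1)
  have hfi : ∀ i, f (t.1 i) = u.1 i := fun i => by
    have := LinearMap.congr_fun hf (b i)
    rw [LinearMap.comp_apply, Module.Basis.constr_basis, Submodule.subtype_apply,
      show ((b i : X) : Fin m ⊕ Fin m → F) = t.1 i from congrArg Subtype.val (Module.Basis.span_apply t.2.1 i)] at this
    exact this
  have hiso : ∀ (w : IsoTuple m F k), ∀ x ∈ Submodule.span F (Set.range w.1),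
      ∀ y ∈ Submodule.span F (Set.range w.1), sympForm m F x y = 0 := fun w x hx y hy => by
    rw [← sympBilin_apply]
    induction hx using Submodule.span_induction with
    | mem z hz =>
      obtain ⟨i, rfl⟩ := hz
      induction hy using Submodule.span_induction with
      | mem z hz => obtain ⟨j, rfl⟩ := hz; exact w.2.2 i j
      | zero => simp [form_zero_right]
      | add a b _ _ ha hb => rw [map_add, ha, hb, add_zero]
      | smul c a _ ha => rw [map_smul, ha, smul_zero]
    | zero => simp [form_zero_left]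
    | add a b _ _ ha hb => rw [map_add, LinearMap.add_apply, ha, hb, add_zero]
    | smul c a _ ha => rw [map_smul, LinearMap.smul_apply, ha, smul_zero]
  have hfX : ∀ x ∈ X, f x ∈ Submodule.span F (Set.range u.1) := fun x hx => by
    have := Submodule.mem_map_of_mem (f := f) hx
    rw [hX, Submodule.map_span, ← Set.range_comp] at this
    rwa [show f ∘ t.1 = u.1 from funext hfi] at this
  obtain ⟨A, hA⟩ := exists_extend X f
    (fun x hx y hy => by rw [hiso u _ (hfX x hx) _ (hfX y hy), hiso t _ hx _ hy])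
    (fun x hx h0 => by
      obtain ⟨c, rfl⟩ := Submodule.mem_span_range_iff_exists_fun F |>.mp hx
      rw [map_sum] at h0
      simp only [map_smul, hfi] at h0
      have := Fintype.linearIndependent_iff.mp u.2.1 c h0
      simp [this])
  exact ⟨A, fun i => by rw [hA _ (Submodule.subset_span ⟨i, rfl⟩), hfi]⟩

theorem card_symplectic_eq [Fintype F] {k : ℕ} (hk : k ≤ m) (t : IsoTuple m F k) :
    Nat.card (symplecticGroup (Fin m) F) =
      (∏ j ∈ Finset.range k, (Fintype.card F ^ (2 * m - j) - Fintype.card F ^ j)) *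
        Nat.card (tupleFixer t.1) := by
  rw [← card_isoTuple hk, ← Subgroup.card_top, card_of_fixer_le t.1 ⊤ le_top]
  congr 1
  refine Nat.card_congr (Equiv.ofBijective (fun x => (⟨x.1, ?_⟩ : IsoTuple m F k)) ⟨?_, ?_⟩)
  · obtain ⟨g, hg⟩ := x.2
    have hinj : Function.Injective fun v : Fin m ⊕ Fin m → F => (g.1 : symplecticGroup (Fin m) F) • v :=
      MulAction.injective _
    refine ⟨?_, fun i j => ?_⟩
    · rw [← hg]
      exact t.2.1.map' (Matrix.toLin' g.1.1) (LinearMap.ker_eq_bot.mpr fun a b h => hinj (by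
        simpa [smul_def] using h))
    · rw [← hg]
      show sympForm m F (g.1.1 *ᵥ t.1 i) (g.1.1 *ᵥ t.1 j) = 0
      rw [form_mulVec g.1.2]
      exact t.2.2 i j
  · intro a b h
    exact Subtype.ext (congrArg (fun u : IsoTuple m F k => u.1) h)
  · intro u
    obtain ⟨A, hA⟩ := exists_map_isoTuple t u
    exact ⟨⟨u.1, ⟨A, Subgroup.mem_top _⟩, funext hA⟩, Subtype.ext rfl⟩

/-- Arithmetic: the order of the fixer of an isotropic `k`-tuple. -/
theorem card_tupleFixer [Fintype F] {k : ℕ} (hk : k ≤ m) (t : IsoTuple m F k) :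
    Nat.card (tupleFixer t.1) = Fintype.card F ^ (k * (k + 1) / 2 + 2 * k * (m - k)) *
      (Fintype.card F ^ ((m - k) ^ 2) *
        ∏ i ∈ Finset.range (m - k), (Fintype.card F ^ (2 * (i + 1)) - 1)) := by
  set q := Fintype.card F with hq
  have hq1 : 1 < q := Fintype.one_lt_card
  have h := card_symplectic_eq hk t
  rw [card_symplectic, ← hq] at h
  have hpos : 0 < ∏ j ∈ Finset.range k, (q ^ (2 * m - j) - q ^ j) :=
    Finset.prod_pos fun j hj => by
      rw [Finset.mem_range] at hj
      exact Nat.sub_pos_of_lt (Nat.pow_lt_pow_right hq1 (by omega))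
  apply Nat.eq_of_mul_eq_mul_left hpos
  rw [← h]
  obtain ⟨l, rfl⟩ : ∃ l, m = k + l := ⟨m - k, by omega⟩
  rw [Nat.add_sub_cancel_left]
  have hterm : ∀ j ∈ Finset.range k,
      q ^ (2 * (k + l) - j) - q ^ j = q ^ j * (q ^ (2 * (k + l - j)) - 1) := by
    intro j hj
    rw [Finset.mem_range] at hj
    rw [Nat.mul_sub, mul_one, ← pow_add, show j + 2 * (k + l - j) = 2 * (k + l) - j by omega]
  rw [Finset.prod_congr rfl hterm, Finset.prod_mul_distrib, Finset.prod_pow_eq_pow_sum]
  rw [← Finset.prod_range_reflect (fun i => q ^ (2 * (i + 1)) - 1) (k + l), Finset.prod_range_add]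
  have h1 : ∀ j ∈ Finset.range k, q ^ (2 * (k + l - 1 - j + 1)) - 1 = q ^ (2 * (k + l - j)) - 1 := by
    intro j hj
    rw [Finset.mem_range] at hj
    rw [show k + l - 1 - j + 1 = k + l - j by omega]
  have h2 : ∏ i ∈ Finset.range l, (q ^ (2 * (k + l - 1 - (k + i) + 1)) - 1) =
      ∏ i ∈ Finset.range l, (q ^ (2 * (i + 1)) - 1) := by
    rw [← Finset.prod_range_reflect (fun i => q ^ (2 * (i + 1)) - 1) l]
    refine Finset.prod_congr rfl fun i hi => ?_
    rw [Finset.mem_range] at hi
    rw [show k + l - 1 - (k + i) + 1 = l - 1 - i + 1 by omega]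
  rw [Finset.prod_congr rfl h1, h2]
  have hexp : (∑ j ∈ Finset.range k, j) + (k * (k + 1) / 2 + 2 * k * l) + l ^ 2 = (k + l) ^ 2 := by
    have hA : (∑ j ∈ Finset.range k, j) * 2 = k * (k - 1) := Finset.sum_range_id_mul_two k
    have hB : k * (k + 1) / 2 * 2 = k * (k + 1) :=
      Nat.div_mul_cancel (Nat.even_mul_succ_self k).two_dvd
    have hC : k * (k - 1) + k = k * k := by
      rcases k with _ | k
      · simp
      · simp [mul_add, add_mul]
    nlinarith
  rw [← hexp, pow_add, pow_add]
  ring

/-! ### Stabilisers -/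

/-- The coordinate isotropic tuple. -/
def stdTuple {k : ℕ} (hk : k ≤ m) : IsoTuple m F k :=
  ⟨fun i => Pi.single (Sum.inl (Fin.castLE hk i)) 1, by
    have := (Pi.basisFun F (Fin m ⊕ Fin m)).linearIndependent.comp
      (fun i : Fin k => Sum.inl (Fin.castLE hk i)) (fun a b h => Fin.castLE_injective hk (Sum.inl_injective h))
    simpa [Function.comp_def] using this, fun i j => by
    simp [form_single_inl]⟩

theorem stab_image_self {g : symplecticGroup (Fin m) F} (W : Submodule F (Fin m ⊕ Fin m → F))
    (h : ∀ v ∈ W, g.1 *ᵥ v ∈ W) : g ∈ stabilizing (spToMat m F) (W : Set (Fin m ⊕ Fin m → F)) := by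
  classical
  intro v
  refine ⟨h v, fun hv => ?_⟩
  have hinj : Function.Injective fun v : Fin m ⊕ Fin m → F => g.1 *ᵥ v := fun a b hab => by
    have := congrArg (fun v => g⁻¹ • v) hab
    simpa [← smul_def] using this
  let L : W →ₗ[F] W := (Matrix.toLin' g.1).restrict (p := W) (q := W) fun v hv => by simpa using h v hv
  have hL : Function.Surjective L := LinearMap.injective_iff_surjective.mp fun a b hab => by
    refine Subtype.ext (hinj ?_)
    simpa [L] using congrArg Subtype.val hab
  obtain ⟨⟨w, hw⟩, hLw⟩ := hL ⟨_, hv⟩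
  have : w = v := hinj (by simpa [L] using congrArg Subtype.val hLw)
  exact this ▸ hw

theorem card_stab_totallyIsotropic [Fintype F] {k : ℕ} (hk : k ≤ m)
    (W : Submodule F (Fin m ⊕ Fin m → F)) (hWk : Module.finrank F W = k)
    (hW : ∀ u ∈ W, ∀ v ∈ W, sympForm m F u v = 0) :
    Nat.card (stabilizing (spToMat m F) (W : Set (Fin m ⊕ Fin m → F))) =
      (∏ i : Fin k, (Fintype.card F ^ k - Fintype.card F ^ (i : ℕ))) *
        (Fintype.card F ^ (k * (k + 1) / 2 + 2 * k * (m - k)) *
          (Fintype.card F ^ ((m - k) ^ 2) *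
            ∏ i ∈ Finset.range (m - k), (Fintype.card F ^ (2 * (i + 1)) - 1))) := by
  classical
  let b := Module.finBasisOfFinrankEq F W hWk
  let t : IsoTuple m F k := ⟨fun i => (b i : Fin m ⊕ Fin m → F),
    b.linearIndependent.map' W.subtype (Submodule.ker_subtype W), fun i j => hW _ (b i).2 _ (b j).2⟩
  have hspan : Submodule.span F (Set.range t.1) = W := by
    have := congrArg (Submodule.map W.subtype) b.span_eq
    rwa [Submodule.map_span, ← Set.range_comp, Submodule.map_subtype_top] at this
  have hle : tupleFixer t.1 ≤ stabilizing (spToMat m F) (W : Set (Fin m ⊕ Fin m → F)) := by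
    intro g hg
    refine stab_image_self W fun v hv => ?_
    rw [← hspan] at hv ⊢
    obtain ⟨c, rfl⟩ := (Submodule.mem_span_range_iff_exists_fun F).mp hv
    simp only [Matrix.mulVec_sum, Matrix.mulVec_smul, mem_tupleFixer.mp hg]
    exact Submodule.sum_mem _ fun i _ => Submodule.smul_mem _ _ (Submodule.subset_span ⟨i, rfl⟩)
  rw [card_of_fixer_le t.1 _ hle, card_tupleFixer hk t]
  congr 1
  have hc := card_linearIndependent (K := F) (V := W) (k := k) (by rw [hWk])
  rw [hWk] at hc
  rw [← hc]
  refine Nat.card_congr (Equiv.ofBijective (fun x => (⟨fun i => ⟨x.1 i, ?_⟩, ?_⟩ :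
    {s : Fin k → W // LinearIndependent F s})) ⟨?_, ?_⟩)
  · obtain ⟨g, hg⟩ := x.2
    rw [← hg]
    exact (g.2 (b i : Fin m ⊕ Fin m → F)).mp (b i).2
  · obtain ⟨g, hg⟩ := x.2
    refine LinearIndependent.of_comp W.subtype ?_
    show LinearIndependent F x.1
    rw [← hg]
    exact t.2.1.map' (Matrix.toLin' g.1.1) (LinearMap.ker_eq_bot.mpr fun a c h => by
      have hinj : Function.Injective fun v : Fin m ⊕ Fin m → F => (g.1 : symplecticGroup (Fin m) F) • v :=
        MulAction.injective _
      exact hinj (by simpa [smul_def] using h))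
  · intro a c h
    refine Subtype.ext (funext fun i => ?_)
    have h' := congrArg Subtype.val (congrFun (congrArg Subtype.val h) i)
    exact h'
  · rintro ⟨s, hs⟩
    let u : IsoTuple m F k := ⟨fun i => (s i : Fin m ⊕ Fin m → F),
      hs.map' W.subtype (Submodule.ker_subtype W), fun i j => hW _ (s i).2 _ (s j).2⟩
    obtain ⟨A, hA⟩ := exists_map_isoTuple t u
    have hAW : A ∈ stabilizing (spToMat m F) (W : Set (Fin m ⊕ Fin m → F)) := by
      refine stab_image_self W fun v hv => ?_
      rw [← hspan] at hv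
      obtain ⟨c, rfl⟩ := (Submodule.mem_span_range_iff_exists_fun F).mp hv
      simp only [Matrix.mulVec_sum, Matrix.mulVec_smul, hA]
      exact Submodule.sum_mem _ fun i _ => Submodule.smul_mem _ _ (s i).2
    exact ⟨⟨fun i => (s i : Fin m ⊕ Fin m → F), ⟨A, hAW⟩, funext hA⟩, Subtype.ext rfl⟩

end CfsgLib.SympGeom
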